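import Mathlib
import Cfsg.Agent.Lib.Comput.Check3
import Cfsg.Agent.Lib.HSR3.P.Data

/-! generated by tools/cgt -/

set_option autoImplicit false
set_option maxRecDepth 100000
set_option Elab.async false

namespace CfsgLib.HSR3.P

open CfsgLib.Comput

def R8_0 : RepC := ⟨34, 1, [],
  []⟩
def S8_0 : GenC := ⟨34, [],
  [(0, 0, 0, 1, 0), (0, 1, 0, 0, 0)], 0⟩
def L8 : Level := ⟨0x0, 0x200000000, [], 1, 5, 0, 2, [R8_0], [S8_0]⟩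
def X8 : Ext := []

def R7_0 : RepC := ⟨33, 1, [(34, 34)],
  [(8, 1, [1])]⟩
def S7_0 : GenC := ⟨33, [(34, 34)],
  [(0, 0, 0, 1, 0), (0, 1, 0, 0, 0)], 0⟩
def L7 : Level := ⟨0x200000000, 0x380000000, [34], 2, 2, 0, 2, [R7_0], [S7_0]⟩
def X7 : Ext := [(31, 0, 34)]

def R6_0 : RepC := ⟨29, 1, [(34, 34), (33, 33)],
  [(66, 1, [1, 2])]⟩
def R6_1 : RepC := ⟨30, 1, [(34, 34), (33, 33)],
  [(95, 1, [1, 2])]⟩
def R6_2 : RepC := ⟨31, 1, [(34, 34), (33, 33)],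
  [(95, 1, [1, 2])]⟩
def S6_0 : GenC := ⟨29, [(33, 33)],
  [(0, 0, 0, 1, 0), (0, 1, 0, 0, 0), (0, 2, 0, 3, 34), (0, 3, 0, 2, 34)], 0⟩
def S6_1 : GenC := ⟨30, [(34, 34)],
  [(0, 0, 0, 2, 0), (0, 1, 0, 3, 34), (0, 2, 0, 0, 0), (0, 3, 0, 1, 34)], 0⟩
def L6 : Level := ⟨0x380000000, 0x3f8000000, [33, 34], 4, 1, 0, 4, [R6_0, R6_1, R6_2], [S6_0, S6_1]⟩
def X6 : Ext := [(27, 0, 33), (30, 0, 0x1e1d22)]

def R5_0 : RepC := ⟨22, 1, [(34, 0x1e21), (29, 0x1d21), (31, 0x2122), (0x1d21, 33)],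
  [(7, 1, [1, 2, 3, 4])]⟩
def R5_1 : RepC := ⟨23, 1, [(31, 0x1f2122), (0x1f21, 30), (34, 0x1e2122), (29, 33)],
  [(11, 1, [1, 2, 3, 4])]⟩
def S5_0 : GenC := ⟨23, [(29, 0x1d21)],
  [(0, 0, 0, 2, 0), (0, 1, 0, 0, 0), (0, 2, 0, 1, 0)], 0⟩
def L5 : Level := ⟨0x3f8000000, 0x3ffe00000, [29, 30, 33, 34], 16, 41, 0, 3, [R5_0, R5_1], [S5_0]⟩
def X5 : Ext := [(21, 23, 0), (23, 0, 0x171d2122), (24, 24, 0), (25, 0, 0x172122), (26, 26, 0)]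

def R4_0 : RepC := ⟨19, 3, [(0x1e21, 34), (0x1e22, 31), (33, 0x1d2122), (0x1f22, 0x1f21)],
  [(42, 1, [1, 2, 3, 4])]⟩
def S4_0 : GenC := ⟨19, [(29, 31)],
  [(0, 0, 0, 1, 0), (22, 1, 0, 0, 0x171e21), (0, 1, 22, 1, 0x161e2122), (23, 1, 23, 1, 0x1722)], 0⟩
def L4 : Level := ⟨0x3ffe00000, 0x3ffff8000, [23, 29, 30, 33, 34], 48, 34, 0, 4, [R4_0], [S4_0]⟩
def X4 : Ext := [(17, 19, 0), (15, 0, 0x171e21), (16, 16, 0), (19, 0, 0x13171e), (20, 20, 0)]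

def R3_0 : RepC := ⟨13, 4, [(23, 0x121e), (30, 29), (0x1d21, 0x2122)],
  [(43, 2, [1, 2, 3]), (31, 2, [1])]⟩
def S3_0 : GenC := ⟨13, [(18, 0x171e21)],
  [(0, 0, 0, 1, 0), (21, 1, 0, 0, 0x13171f22), (0, 1, 18, 1, 0x171f22)], 2⟩
def L3 : Level := ⟨0x3ffff8000, 0x3fffff800, [19, 23, 29, 30, 33, 34], 192, 15, 0, 5, [R3_0], [S3_0]⟩
def X3 : Ext := [(11, 13, 0), (13, 0, 0x120d), (14, 14, 0)]

def R2_0 : RepC := ⟨9, 20, [(0x161f22, 0xe12171d22), (0xe121721, 0x130d1522), (23, 0xd12171e2122)],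
  [(66, 3, [1, 2, 3]), (1, 2, [1])]⟩
def S2_0 : GenC := ⟨10, [(0xe1222, 0x130d1621), (0x171e22, 0x121e), (0xe121d, 0xd12171d22)],
  [(0, 0, 0x151b, 1, 0xd131d22), (0, 1, 0, 0, 0), (15, 1, 0, 1, 0xd131621), (33, 1, 21, 1, 0xd1622)], 2⟩
def L2 : Level := ⟨0x3fffff800, 0x3ffffff00, [13, 19, 23, 29, 30, 33, 34], 960, 4, 0, 21, [R2_0], [S2_0]⟩
def X2 : Ext := [(8, 10, 0), (10, 0, 0xd15162122)]

def R1_0 : RepC := ⟨0x906, 21, [(0xe12161f22, 0x22090e12171e22), (0xd161e22, 0x90e12171e22), (0xe1d21, 0x150a130d15172122)],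
  [(74, 4, [1, 2, 3]), (30, 4, [1, 2])]⟩
def S1_0 : GenC := ⟨6, [(21, 0x1f0a13171d), (0x21090d1e, 0x22090d121d22)],
  [(0, 0, 10, 1, 0), (0xd0a, 1, 0, 0, 0xc121f22), (0, 1, 0x160a, 1, 0xc0a130d151e)], 4⟩
def L1 : Level := ⟨0x3ffffff00, 0x3fffffff0, [10, 13, 19, 23, 29, 30, 33, 34], 20160, 3, 0, 22, [R1_0], [S1_0]⟩
def X1 : Ext := [(4, 6, 0), (6, 0, 0x1f051f0a0e151622), (7, 7, 0)]

def R0_0 : RepC := ⟨36, 22, [(0x1217, 0xa220a130d15161d22), (0x1f21, 0x1f0a130d13171f22), (0xa0c1622, 0x1a0621090d12), (0xa220a0d1d21, 0x1a06150a130d1721)],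
  [(74, 4, [1, 2, 3, 4]), (79, 5, [1, 2, 3]), (40, 2, [1, 2])]⟩
def R0_1 : RepC := ⟨1, 77, [(0x1806150a0c151722, 0x10061a0a0d121e22), (0xd07100a0e13, 0x1706210a0d121722), (0x21060c0a122122, 0x5170a130d12161d), (0x7210a0c131721, 0x1606130d151e2122)],
  [(19, 4, [1, 2, 3, 4]), (5, 3, [1, 2, 3]), (11, 2, [1])]⟩
def S0_0 : GenC := ⟨35, [(0xd0a0d1321, 0x21090d13171e21), (0xc090d151d, 0xb0509130d15171e2122)],
  [(0, 0, 0x1006, 1, 0x1006160a130d13161f22), (0, 2, 15, 2, 0x18060c090e13161e21), (0, 1, 0, 0, 0), (5, 1, 0xa06, 2, 0x150a0c1316), (6, 2, 0x1506, 1, 0x22060d0a0e151f22)], 5⟩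
def L0 : Level := ⟨0x3fffffff0, 0xfffffffff, [6, 10, 13, 19, 23, 29, 30, 33, 34], 443520, 0, 0, 100, [R0_0, R0_1], [S0_0]⟩
def X0 : Ext := [(35, 35, 0), (0, 0, 0x1e231e2322061a0a0d13), (1, 1, 0), (2, 0, 0x1d02070a130d131622), (3, 3, 0)]

def top : List ℕ := [1, 3]
def gs : List ℕ := [35, 6, 10, 13, 19, 23, 29, 30, 33, 34]
def XD : Ext := [(1, 1, 0), (3, 3, 0), (4, 0, 0x20202030203030101), (5, 5, 0), (6, 0, 0x2020301040402030302), (7, 7, 0), (8, 0, 0x808050706), (9, 9, 0), (10, 0, 0x60608060805), (11, 0, 0xa0b0a0b0a0b0a0a0a0b0a), (12, 12, 0), (13, 0, 0xa0b0a0b0a0a0a0b090b0a), (14, 14, 0), (15, 0, 0xd0e0c0c), (16, 16, 0), (17, 0, 0xe0c), (18, 18, 0), (19, 0, 0xc0e0e), (20, 20, 0), (21, 0, 0x121012), (22, 22, 0), (23, 0, 0x14111512), (24, 24, 0), (25, 0, 0x1215131413), (26, 26, 0), (27, 0, 0x16191a17), (28, 0, 0x191a),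 (29, 0, 0x1816), (30, 0, 0x161b1717), (31, 0, 0x1f1e1d), (32, 0, 0x1e1d1c1e1d), (33, 0, 0x212021), (34, 0, 0x202), (35, 35, 0)]

/-- all the equations of the certificate -/
structure Eqs {G : Type*} [Group G] (g : ℕ → G) : Prop where
  l8 : AllHold g L8.eqns
  x8 : AllHold g X8.eqns
  l7 : AllHold g L7.eqns
  x7 : AllHold g X7.eqns
  l6 : AllHold g L6.eqns
  x6 : AllHold g X6.eqns
  l5 : AllHold g L5.eqns
  x5 : AllHold g X5.eqns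
  l4 : AllHold g L4.eqns
  x4 : AllHold g X4.eqns
  l3 : AllHold g L3.eqns
  x3 : AllHold g X3.eqns
  l2 : AllHold g L2.eqns
  x2 : AllHold g X2.eqns
  l1 : AllHold g L1.eqns
  x1 : AllHold g X1.eqns
  l0 : AllHold g L0.eqns
  x0 : AllHold g X0.eqns
  xd : AllHold g XD.eqns

end CfsgLib.HSR3.P
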